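import Groth.Agent.Lib.CohDer19.ClassUnb
import Groth.Agent.Lib.DerBC.Resolution
import Groth.Agent.Lib.RDerLES.LES
import Mathlib.CategoryTheory.Abelian.Opposite

/-!
Objects whose derived functors are concentrated in one degree: vanishing lemmas, and left resolutions of
unbounded complexes by such objects.
-/

set_option autoImplicit false
universe v v' u u'
open CategoryTheory CategoryTheory.Limits Opposite

namespace GrothLib.RDDual19

variable {A : Type u} [Category.{v} A] [Abelian A] [EnoughInjectives A]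
  {B : Type u'} [Category.{v'} B] [Abelian B] (F : A ⥤ B) [F.Additive]

/-- All `RⁱF` with `i ≠ N` vanish. -/
def PN (N : ℕ) : ObjectProperty A := fun X => ∀ i : ℕ, i ≠ N → IsZero ((F.rightDerived i).obj X)

variable {F} (Δ : RDer.DerivedLES F) {S : ShortComplex A} (hS : S.ShortExact)
include Δ hS

lemma isZero_X₂ (i : ℕ) (h₁ : IsZero ((F.rightDerived i).obj S.X₁)) (h₃ : IsZero ((F.rightDerived i).obj S.X₃)) :
    IsZero ((F.rightDerived i).obj S.X₂) :=
  (Δ.exact₂ S hS i).isZero_of_both_zeros (h₁.eq_of_src _ _) (h₃.eq_of_tgt _ _)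

lemma isZero_X₁_succ (i : ℕ) (h₃ : IsZero ((F.rightDerived i).obj S.X₃))
    (h₂ : IsZero ((F.rightDerived (i + 1)).obj S.X₂)) : IsZero ((F.rightDerived (i + 1)).obj S.X₁) :=
  (Δ.exact₁ S hS i (i + 1) rfl).isZero_of_both_zeros (h₃.eq_of_src _ _) (h₂.eq_of_tgt _ _)

lemma isZero_X₃ (i : ℕ) (h₂ : IsZero ((F.rightDerived i).obj S.X₂))
    (h₁ : IsZero ((F.rightDerived (i + 1)).obj S.X₁)) : IsZero ((F.rightDerived i).obj S.X₃) :=
  (Δ.exact₃ S hS i (i + 1) rfl).isZero_of_both_zeros (h₂.eq_of_src _ _) (h₁.eq_of_tgt _ _)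

omit Δ in
lemma mono_rightDerived_zero [PreservesFiniteLimits F] : Mono ((F.rightDerived 0).map S.f) :=
  have := hS.mono_f
  ((MorphismProperty.monomorphisms B).arrow_mk_iso_iff
    (Arrow.isoMk (F.rightDerivedZeroIsoSelf.app _) (F.rightDerivedZeroIsoSelf.app _)
      (F.rightDerivedZeroIsoSelf.hom.naturality S.f).symm)).2 (inferInstanceAs (Mono (F.map S.f)))

omit Δ in
lemma isZero_X₁_zero [PreservesFiniteLimits F] (h₂ : IsZero ((F.rightDerived 0).obj S.X₂)) :
    IsZero ((F.rightDerived 0).obj S.X₁) :=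
  have := mono_rightDerived_zero (F := F) hS
  IsZero.of_mono ((F.rightDerived 0).map S.f) h₂

variable {N : ℕ} [PreservesFiniteLimits F]

omit hS in
theorem exists_leftRes (hdim : ∀ (X : A) (i : ℕ), N < i → IsZero ((F.rightDerived i).obj X))
    (hP : ∀ X : A, ∃ (Y : A) (p : Y ⟶ X), Epi p ∧ PN F N Y) (K : CochainComplex A ℤ) :
    ∃ (Q : CochainComplex A ℤ) (φ : Q ⟶ K), QuasiIso φ ∧ ∀ k, PN F N (Q.X k) := by
  let P' : ObjectProperty Aᵒᵖ := fun X => PN F N X.unop
  have h1 : ∀ X : Aᵒᵖ, ∃ (Y : Aᵒᵖ) (i : X ⟶ Y), P' Y ∧ Mono i := fun X => by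
    obtain ⟨Y, p, hp, hY⟩ := hP X.unop
    exact ⟨op Y, p.op, hY, inferInstance⟩
  have h2 : ∀ S : ShortComplex Aᵒᵖ, S.ShortExact → P' S.X₁ → (P' S.X₂ ↔ P' S.X₃) := fun S hS h₁ =>
    ⟨fun h₂ i hi => by
      rcases i with _ | i
      · exact isZero_X₁_zero hS.unop (h₂ 0 hi)
      · by_cases h : i = N
        · exact hdim _ _ (by omega)
        · exact isZero_X₁_succ Δ hS.unop i (h₁ i h) (h₂ _ hi),
      fun h₃ i hi => isZero_X₂ Δ hS.unop i (h₃ i hi) (h₁ i hi)⟩
  have h3 : ∀ L : CochainComplex Aᵒᵖ ℕ, (∀ i : ℕ, 1 ≤ i → i ≤ N + 1 → L.ExactAt i) →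
      (∀ i : ℕ, N + 1 < i → IsZero (L.X i)) → Epi (L.d (N + 1 - 1) (N + 1)) →
      (∀ i : ℕ, i < N + 1 → P' (L.X i)) → P' (L.X (N + 1)) := by
    intro L hex hz _ hL
    have key : ∀ j : ℕ, j ≤ N + 1 → ∀ i : ℕ, i < j → i < N →
        IsZero ((F.rightDerived i).obj (kernel (L.d j (j + 1))).unop) := by
      intro j
      induction j with
      | zero => exact fun _ i hi => absurd hi (Nat.not_lt_zero i)
      | succ j ih =>
        intro hj i hij hiN
        let T : ShortComplex Aᵒᵖ := ShortComplex.mk (kernel.ι (L.d j (j + 1)))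
          (kernel.lift (L.d (j + 1) (j + 2)) (L.d j (j + 1)) (L.d_comp_d _ _ _)) (by ext; simp)
        have h := hex (j + 1) (by omega) hj
        rw [HomologicalComplex.exactAt_iff' _ j (j + 1) (j + 2) (by simp) (by simp)] at h
        have : Epi T.g := h.epi_kernelLift
        have hT : T.ShortExact :=
          { exact := ShortComplex.exact_of_f_is_kernel _ (KernelFork.IsLimit.ofι' _ _ fun l hl =>
              ⟨kernel.lift _ l (by simpa [T] using hl =≫ kernel.ι _), kernel.lift_ι _ _ _⟩)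
            mono_f := inferInstanceAs (Mono (kernel.ι _))
            epi_g := this }
        rcases i with _ | i
        · exact isZero_X₁_zero hT.unop (hL j (by omega) 0 (by omega))
        · exact isZero_X₁_succ Δ hT.unop i (ih (by omega) i (by omega) (by omega))
            (hL j (by omega) _ (by omega))
    intro i hi
    have h0 : L.d (N + 1) (N + 1 + 1) = 0 := (hz _ (by omega)).eq_of_tgt _ _
    have : IsIso (kernel.ι (L.d (N + 1) (N + 1 + 1))) := by
      rw [← Category.id_comp (kernel.ι _)]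
      exact ⟨⟨kernel.lift _ (𝟙 _) (by simp [h0]), by ext; simp, by simp⟩⟩
    by_cases h : i < N
    · exact (key (N + 1) le_rfl i (by omega) h).of_iso
        ((F.rightDerived i).mapIso (asIso (kernel.ι (L.d (N + 1) (N + 1 + 1)))).unop)
    · exact hdim _ _ (by omega)
  let e := CochainComplex.opEquivalence A
  obtain ⟨I, g, hg, hI⟩ := CohDer19.ClassUnb.exists_quasiIso P' h1 h2 (N + 1) (by omega) h3 (e.functor.obj (op K))
  let Q := (e.inverse.obj I).unop
  let c : e.functor.obj (op Q) ≅ I := e.counitIso.app I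
  let g' : e.functor.obj (op K) ⟶ e.functor.obj (op Q) := g ≫ c.inv
  refine ⟨Q, (e.functor.preimage g').unop, ?_, fun k => ?_⟩
  · refine DerBC.quasiIso_of_op _ ?_
    show QuasiIso (e.functor.map (e.functor.preimage g'))
    rw [e.functor.map_preimage g']
    infer_instance
  · obtain ⟨m, rfl⟩ : ∃ m, k = -m := ⟨-k, by omega⟩
    intro i hi
    exact (hI m i hi).of_iso ((F.rightDerived i).mapIso ((HomologicalComplex.eval _ _ m).mapIso c).symm.unop)

end GrothLib.RDDual19
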