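import Groth.Agent.Lib.CohDer19.ClassUnb
import Groth.Agent.Lib.DerCat.Acyclic
import Mathlib.CategoryTheory.Preadditive.Injective.Basic

/-!
The embedding of a complex into a contractible complex of injectives, with lifts of morphisms.
-/

set_option autoImplicit false
set_option backward.isDefEq.respectTransparency false
set_option backward.defeqAttrib.useBackward true
universe w v u
open CategoryTheory CategoryTheory.Limits CochainComplex CochainComplex.HomComplex
open GrothLib.CohDer19

namespace GrothLib.RDDual19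

variable {A : Type u} [Category.{v} A] [Abelian A]

section OfSnd

variable {Z : CochainComplex A ℤ} (hZ : ∀ i j, Z.d i j = 0) {M : CochainComplex A ℤ}

/-- The morphism into a contractible complex with given components. -/
noncomputable def ofSnd (α : ∀ n, M.X n ⟶ Z.X n) : M ⟶ mappingCone (𝟙 Z) :=
  mappingCone.lift _
    (Cocycle.mk (Cochain.mk (fun p q _ => M.d p q ≫ α q)) 2
      (by lia) (by
        ext p q hpq
        simp [hZ, δ_v 1 2 (by lia) _ p q hpq (p + 1) (p + 1) (by lia) rfl]))
    (Cochain.ofHoms α) (by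
      ext p q hpq
      simp [hZ, δ_v 0 1 (by lia) _ p q hpq (q - 1) (p + 1) (by lia) rfl])

lemma ofSnd_snd (α : ∀ n, M.X n ⟶ Z.X n) (n : ℤ) :
    (ofSnd hZ α).f n ≫ (mappingCone.snd (𝟙 Z)).v n n (add_zero n) = α n := by
  simp [ofSnd]

include hZ in
lemma hom_ext_snd {f g : M ⟶ mappingCone (𝟙 Z)}
    (h : ∀ n, f.f n ≫ (mappingCone.snd (𝟙 Z)).v n n (add_zero n) =
      g.f n ≫ (mappingCone.snd (𝟙 Z)).v n n (add_zero n)) : f = g := by
  have key : ∀ (f : M ⟶ mappingCone (𝟙 Z)) (i j : ℤ) (hij : i + 1 = j),
      f.f i ≫ (mappingCone.fst (𝟙 Z)).1.v i j hij =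
        M.d i j ≫ f.f j ≫ (mappingCone.snd (𝟙 Z)).v j j (add_zero j) := by
    intro f i j hij
    rw [← HomologicalComplex.Hom.comm_assoc, mappingCone.d_snd_v (𝟙 Z) i j hij]
    simp [hZ]
  ext n
  rw [mappingCone.ext_to_iff _ n (n + 1) rfl]
  exact ⟨by rw [key f _ _ rfl, key g _ _ rfl, h], h n⟩

end OfSnd

variable [EnoughInjectives A]

/-- The contractible complex of injectives. -/
noncomputable abbrev J (K : CochainComplex A ℤ) : CochainComplex A ℤ :=
  ClassUnb.env (fun X : A => Injective.under X) K

/-- The embedding. -/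
noncomputable abbrev ι (K : CochainComplex A ℤ) : K ⟶ J K :=
  ClassUnb.envι (fun X : A => Injective.under X) (fun X => Injective.ι X) K

/-- The quotient. -/
noncomputable abbrev R (K : CochainComplex A ℤ) : CochainComplex A ℤ := cokernel (ι K)

/-- The projection. -/
noncomputable abbrev π (K : CochainComplex A ℤ) : J K ⟶ R K := cokernel.π (ι K)

/-- The short exact sequence. -/
noncomputable abbrev sc (K : CochainComplex A ℤ) : ShortComplex (CochainComplex A ℤ) :=
  ShortComplex.mk (ι K) (π K) (cokernel.condition _)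

lemma sc_shortExact (K : CochainComplex A ℤ) : (sc K).ShortExact :=
  ClassUnb.envSC_shortExact (fun X : A => Injective.under X) (fun X => Injective.ι X) K

lemma injective_J (K : CochainComplex A ℤ) (p : ℤ) : Injective ((J K).X p) :=
  have : ∀ k, Injective ((ClassUnb.zeroDiff (fun X : A => Injective.under X) K).X k) := fun k =>
    inferInstanceAs (Injective (Injective.under _))
  Injective.of_iso (HomologicalComplex.homotopyCofiber.XIsoBiprod
    (𝟙 (ClassUnb.zeroDiff (fun X : A => Injective.under X) K)) p (p + 1) rfl).symm inferInstance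

lemma exists_lift {K K' : CochainComplex A ℤ} (f : K ⟶ K') :
    ∃ (a : J K ⟶ J K') (b : R K ⟶ R K'), f ≫ ι K' = ι K ≫ a ∧ π K ≫ b = a ≫ π K' := by
  let Y : A → A := fun X => Injective.under X
  have : ∀ n, Mono ((ι K).f n) := fun n => ClassUnb.mono_envι_f Y (fun X => Injective.ι X) K n
  have : ∀ n, Injective ((ClassUnb.zeroDiff Y K').X n) := fun n => inferInstanceAs (Injective (Injective.under _))
  let α : ∀ n, (J K).X n ⟶ (ClassUnb.zeroDiff Y K').X n := fun n =>
    Injective.factorThru (f.f n ≫ (ι K').f n ≫ (mappingCone.snd (𝟙 (ClassUnb.zeroDiff Y K'))).v n n (add_zero n))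
      ((ι K).f n)
  let a : J K ⟶ J K' := ofSnd (fun _ _ => rfl) α
  have h : f ≫ ι K' = ι K ≫ a := hom_ext_snd (fun _ _ => rfl) fun n => by
    simp only [HomologicalComplex.comp_f, Category.assoc, a, ofSnd_snd, α, Injective.comp_factorThru]
    rfl
  exact ⟨a, cokernel.map _ _ f a h.symm, h, by simp⟩

/-- The quotient, moved into the degrees of `K`. -/
noncomputable abbrev T (K : CochainComplex A ℤ) : CochainComplex A ℤ := (R K)⟦(-1 : ℤ)⟧

/-- The comparison of `K` with the cocone. -/
noncomputable def jMap (K : CochainComplex A ℤ) : K ⟶ mappingCocone (π K) :=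
  mappingCocone.lift (π K) (ι K) 0 (by simp)

/-- The comparison of the shifted quotient with the cocone. -/
noncomputable def rMap (K : CochainComplex A ℤ) : T K ⟶ mappingCocone (π K) :=
  (CategoryTheory.shiftFunctor (CochainComplex A ℤ) (-1 : ℤ)).map (mappingCone.inr (π K))

variable [HasDerivedCategory.{w} A]

lemma isIso_Q_jMap (K : CochainComplex A ℤ) : IsIso (DerivedCategory.Q.map (jMap K)) :=
  have : QuasiIso (jMap K) := Hull.quasiIso_lift (cokernel.condition (ι K)) (sc_shortExact K)
  inferInstance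

lemma isIso_Q_rMap (K : CochainComplex A ℤ) : IsIso (DerivedCategory.Q.map (rMap K)) := by
  have hJ : IsZero (DerivedCategory.Q.obj (J K)) :=
    (Pretriangulated.Triangle.isZero₃_iff_isIso₁ _
      (DerivedCategory.mappingCone_triangle_distinguished (𝟙 (ClassUnb.zeroDiff (fun X : A => Injective.under X) K)))).2
      (inferInstanceAs (IsIso (DerivedCategory.Q.map (𝟙 _))))
  have : IsIso (DerivedCategory.Q.map (mappingCone.inr (π K))) :=
    (Pretriangulated.Triangle.isZero₁_iff_isIso₂ _
      (DerivedCategory.mappingCone_triangle_distinguished (π K))).1 hJ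
  exact (NatIso.isIso_map_iff (DerivedCategory.Q.commShiftIso (-1 : ℤ)) (mappingCone.inr (π K))).2
    (inferInstanceAs (IsIso ((CategoryTheory.shiftFunctor _ (-1 : ℤ)).map
      (DerivedCategory.Q.map (mappingCone.inr (π K))))))

/-- A complex is isomorphic to the shifted quotient in the derived category. -/
noncomputable def θ (K : CochainComplex A ℤ) : DerivedCategory.Q.obj K ≅ DerivedCategory.Q.obj (T K) :=
  have := isIso_Q_jMap K
  have := isIso_Q_rMap K
  asIso (DerivedCategory.Q.map (jMap K)) ≪≫ (asIso (DerivedCategory.Q.map (rMap K))).symm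

lemma θ_naturality {K K' : CochainComplex A ℤ} (f : K ⟶ K') (a : J K ⟶ J K') (b : R K ⟶ R K')
    (ha : f ≫ ι K' = ι K ≫ a) (hb : π K ≫ b = a ≫ π K') :
    DerivedCategory.Q.map f ≫ (θ K').hom =
      (θ K).hom ≫ DerivedCategory.Q.map ((CategoryTheory.shiftFunctor (CochainComplex A ℤ) (-1 : ℤ)).map b) := by
  have := isIso_Q_jMap K; have := isIso_Q_jMap K'
  have := isIso_Q_rMap K; have := isIso_Q_rMap K'
  have hr : (CategoryTheory.shiftFunctor (CochainComplex A ℤ) (-1 : ℤ)).map b ≫ rMap K' =
      rMap K ≫ Hull.coconeMap a b hb := by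
    refine ((CategoryTheory.shiftFunctor (CochainComplex A ℤ) (-1 : ℤ)).map_comp _ _).symm.trans (Eq.trans ?_
      ((CategoryTheory.shiftFunctor (CochainComplex A ℤ) (-1 : ℤ)).map_comp _ _))
    congr 1
    ext n
    simp [mappingCone.map]
  have hj : f ≫ jMap K' = jMap K ≫ Hull.coconeMap a b hb := by
    ext n
    rw [← cancel_mono (𝟙 ((mappingCocone (π K')).X n)), ← mappingCocone.id_X (π K') n (n + -1) rfl]
    have h₁ := HomologicalComplex.congr_hom ha n
    simp only [HomologicalComplex.comp_f] at h₁
    simp [jMap, reassoc_of% (Hull.coconeMap_fst a b hb n), reassoc_of% (Hull.coconeMap_snd a b hb n _ rfl),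
      reassoc_of% h₁]
  simp only [θ, Iso.trans_hom, asIso_hom, Iso.symm_hom, asIso_inv]
  rw [← cancel_mono (DerivedCategory.Q.map (rMap K')), Category.assoc, Category.assoc, IsIso.inv_hom_id,
    Category.comp_id, Category.assoc, Category.assoc, ← Functor.map_comp, ← Functor.map_comp, hr, hj,
    Functor.map_comp, Functor.map_comp, IsIso.inv_hom_id_assoc]

end GrothLib.RDDual19
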