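import Groth.Agent.Lib.RDDual19.Class
import Groth.Agent.Lib.RDDual19.Env
import Groth.Agent.Lib.DerCat.DimShiftRD

/-!
The connecting morphism of complexes and when it is a quasi-isomorphism.
-/

set_option autoImplicit false
universe w' v v' u u'
open CategoryTheory CategoryTheory.Limits ZeroObject

namespace GrothLib.RDDual19

variable {A : Type u} [Category.{v} A] [Abelian A] [EnoughInjectives A]
  {B : Type u'} [Category.{v'} B] [Abelian B] (F : A ⥤ B) [F.Additive]

/-- `RᵏF` applied termwise. -/
noncomputable abbrev G (k : ℕ) : CochainComplex A ℤ ⥤ CochainComplex B ℤ :=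
  (F.rightDerived k).mapHomologicalComplex (ComplexShape.up ℤ)

/-- The sequence in a fixed degree. -/
noncomputable abbrev dsc (K : CochainComplex A ℤ) (p : ℤ) : ShortComplex A :=
  (sc K).map (HomologicalComplex.eval A (ComplexShape.up ℤ) p)

lemma dsc_shortExact (K : CochainComplex A ℤ) (p : ℤ) : (dsc K p).ShortExact :=
  (sc_shortExact K).map_of_exact (HomologicalComplex.eval A (ComplexShape.up ℤ) p)

variable {F} (Δ : RDer.DerivedLES F)

/-- The connecting morphism of complexes. -/
noncomputable def δc (K : CochainComplex A ℤ) (k : ℕ) : (G F k).obj (R K) ⟶ (G F (k + 1)).obj K where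
  f p := Δ.δ (dsc K p) (dsc_shortExact K p) k (k + 1) rfl
  comm' i j _ := (Δ.δ_natural (dsc_shortExact K i) (dsc_shortExact K j)
    (ShortComplex.homMk (K.d i j) ((J K).d i j) ((R K).d i j) ((ι K).comm i j).symm ((π K).comm i j).symm :
      dsc K i ⟶ dsc K j) k (k + 1) rfl).symm

lemma δc_naturality {K K' : CochainComplex A ℤ} (f : K ⟶ K') (a : J K ⟶ J K') (b : R K ⟶ R K')
    (ha : f ≫ ι K' = ι K ≫ a) (hb : π K ≫ b = a ≫ π K') (k : ℕ) :
    (G F k).map b ≫ δc Δ K' k = δc Δ K k ≫ (G F (k + 1)).map f := by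
  ext p
  exact Δ.δ_natural (dsc_shortExact K p) (dsc_shortExact K' p)
    (ShortComplex.homMk (f.f p) (a.f p) (b.f p) (HomologicalComplex.congr_hom ha p)
      (HomologicalComplex.congr_hom hb p).symm : dsc K p ⟶ dsc K' p) k (k + 1) rfl

/-- `F` and `R⁰F` on complexes. -/
noncomputable def zeroIso [PreservesFiniteLimits F] : G F 0 ≅ F.mapHomologicalComplex (ComplexShape.up ℤ) :=
  NatIso.mapHomologicalComplex F.rightDerivedZeroIsoSelf _

variable (F)

/-- All higher derived functors vanish above `n` on the terms. -/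
def Dim (n : ℕ) (K : CochainComplex A ℤ) : Prop :=
  ∀ (p : ℤ) (i : ℕ), n < i → IsZero ((F.rightDerived i).obj (K.X p))

/-- The condition under which the comparison is invertible. -/
structure Inv (n : ℕ) (K : CochainComplex A ℤ) : Prop where
  low : ∀ (p : ℤ) (i : ℕ), 0 < i → i < n → IsZero ((F.rightDerived i).obj (K.X p))
  acyclic : 0 < n → ((F.mapHomologicalComplex (ComplexShape.up ℤ)).obj K).Acyclic

variable {F}

omit [EnoughInjectives A] [F.Additive] in
lemma isZero_Q_obj_of_acyclic [HasDerivedCategory.{w'} B] {M : CochainComplex B ℤ} (h : M.Acyclic) :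
    IsZero (DerivedCategory.Q.obj M) := by
  let f : M ⟶ 0 := 0
  have : QuasiIso f := ⟨fun i => (quasiIsoAt_iff_isIso_homologyMap f i).2
    ⟨0, ((M.exactAt_iff_isZero_homology i).1 (h i)).eq_of_src _ _,
      (Functor.map_isZero (HomologicalComplex.homologyFunctor B _ i) (isZero_zero _)).eq_of_src _ _⟩⟩
  exact IsZero.of_iso (DerivedCategory.Q.map_isZero (isZero_zero _)) (asIso (DerivedCategory.Q.map f))

lemma isZero_rightDerived_J (K : CochainComplex A ℤ) (p : ℤ) (i : ℕ) :
    IsZero ((F.rightDerived (i + 1)).obj ((J K).X p)) :=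
  have := injective_J K p
  F.isZero_rightDerived_obj_injective_succ i _

include Δ in
lemma dim_T {n : ℕ} {K : CochainComplex A ℤ} (h : Dim F (n + 1) K) : Dim F n (T K) := by
  intro p i hi
  obtain ⟨i, rfl⟩ : ∃ j, i = j + 1 := ⟨i - 1, by omega⟩
  exact isZero_X₃ Δ (dsc_shortExact K (p + -1)) (i + 1) (isZero_rightDerived_J K _ i) (h _ _ (by omega))

lemma acyclic_map_J (K : CochainComplex A ℤ) :
    ((F.mapHomologicalComplex (ComplexShape.up ℤ)).obj (J K)).Acyclic :=
  DerCat.acyclic_of_iso (CochainComplex.mappingCone.mapHomologicalComplexIso _ F).symm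
    ((DerCat.quasiIso_iff_acyclic_mappingCone _).1
      inferInstance)

variable [PreservesFiniteLimits F]

lemma acyclic_map_R {n : ℕ} (hn : 1 ≤ n) {K : CochainComplex A ℤ} (h : Inv F (n + 1) K) :
    ((F.mapHomologicalComplex (ComplexShape.up ℤ)).obj (R K)).Acyclic := by
  let S := (sc K).map (F.mapHomologicalComplex (ComplexShape.up ℤ))
  have hS : S.ShortExact := HomologicalComplex.shortExact_of_degreewise_shortExact _ fun p =>
    GrothLib.HomGamma.shortExact_map_of_isZero F (dsc_shortExact K p) (h.low p 1 (by omega) (by omega))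
  exact DerCat.acyclic_X₃ hS (h.acyclic (by omega)) (acyclic_map_J K)

include Δ in
lemma inv_T {n : ℕ} {K : CochainComplex A ℤ} (h : Inv F (n + 1) K) : Inv F n (T K) where
  low p i hi hin := by
    obtain ⟨i, rfl⟩ : ∃ j, i = j + 1 := ⟨i - 1, by omega⟩
    exact isZero_X₃ Δ (dsc_shortExact K (p + -1)) (i + 1) (isZero_rightDerived_J K _ i)
      (h.low _ _ (by omega) (by omega))
  acyclic hn := DerCat.acyclic_of_iso
    (((F.mapHomologicalComplex (ComplexShape.up ℤ)).commShiftIso (-1 : ℤ)).app (R K)).symm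
    (DerCat.acyclic_shift (acyclic_map_R hn h) _)

variable [HasDerivedCategory.{w'} B]

/-- The connecting morphism is a quasi-isomorphism under the invariant. -/
lemma isIso_Q_δc {n : ℕ} {K : CochainComplex A ℤ} (hd : Dim F (n + 1) K) (h : Inv F (n + 1) K) :
    IsIso (DerivedCategory.Q.map (δc Δ K n)) := by
  rcases n with _ | n
  · let S₂ : ShortComplex (CochainComplex B ℤ) := ShortComplex.mk (kernel.ι (δc Δ K 0)) (δc Δ K 0) (kernel.condition _)
    have hepi : Epi (δc Δ K 0) := HomologicalComplex.epi_of_epi_f _ fun p =>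
      (Δ.exact₁ _ (dsc_shortExact K p) 0 1 rfl).epi_f ((isZero_rightDerived_J K p 0).eq_of_tgt _ _)
    have h₂ : S₂.ShortExact :=
      { exact := ShortComplex.exact_of_f_is_kernel _ (kernelIsKernel (δc Δ K 0))
        mono_f := inferInstanceAs (Mono (kernel.ι _))
        epi_g := hepi }
    have hw : (G F 0).map (π K) ≫ δc Δ K 0 = 0 := by
      ext p
      exact Δ.comp_δ _ (dsc_shortExact K p) 0 1 rfl
    have hk : (G F 0).map (ι K) ≫ kernel.lift (δc Δ K 0) ((G F 0).map (π K)) hw = 0 := by
      rw [← cancel_mono (kernel.ι (δc Δ K 0)), Category.assoc, kernel.lift_ι, zero_comp, ← Functor.map_comp,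
        cokernel.condition, Functor.map_zero]
    let S₁ : ShortComplex (CochainComplex B ℤ) :=
      ShortComplex.mk ((G F 0).map (ι K)) (kernel.lift (δc Δ K 0) ((G F 0).map (π K)) hw) hk
    have he₂ : (ShortComplex.mk ((G F 0).map (π K)) (δc Δ K 0) hw).Exact :=
      (HomologicalComplex.exact_iff_degreewise_exact _).2 fun p => Δ.exact₃ _ (dsc_shortExact K p) 0 1 rfl
    have hm : ∀ p, Mono (((G F 0).map (ι K)).f p) := fun p => mono_rightDerived_zero (F := F) (dsc_shortExact K p)
    have he₁ : (ShortComplex.mk ((G F 0).map (ι K)) ((G F 0).map (π K))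
        (by rw [← Functor.map_comp, cokernel.condition, Functor.map_zero])).Exact :=
      (HomologicalComplex.exact_iff_degreewise_exact _).2 fun p => Δ.exact₂ _ (dsc_shortExact K p) 0
    have h₁ : S₁.ShortExact :=
      { exact := by
          let φ : S₁ ⟶ ShortComplex.mk ((G F 0).map (ι K)) ((G F 0).map (π K))
              (by rw [← Functor.map_comp, cokernel.condition, Functor.map_zero]) :=
            { τ₁ := 𝟙 _, τ₂ := 𝟙 _, τ₃ := kernel.ι _
              comm₁₂ := by simp [S₁]
              comm₂₃ := by simp [S₁] }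
          have : Epi φ.τ₁ := inferInstanceAs (Epi (𝟙 _))
          have : IsIso φ.τ₂ := inferInstanceAs (IsIso (𝟙 _))
          have : Mono φ.τ₃ := inferInstanceAs (Mono (kernel.ι _))
          exact (ShortComplex.exact_iff_of_epi_of_isIso_of_mono φ).2 he₁
        mono_f := HomologicalComplex.mono_of_mono_f _ hm
        epi_g := he₂.epi_kernelLift }
    have hz : ∀ L, ((F.mapHomologicalComplex (ComplexShape.up ℤ)).obj L).Acyclic → ((G F 0).obj L).Acyclic :=
      fun L hL => DerCat.acyclic_of_iso (zeroIso.app L).symm hL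
    have hM : (kernel (δc Δ K 0)).Acyclic :=
      DerCat.acyclic_X₃ h₁ (hz _ (h.acyclic (by omega))) (hz _ (acyclic_map_J K))
    refine (Pretriangulated.Triangle.isZero₁_iff_isIso₂ _ (DerivedCategory.triangleOfSES_distinguished h₂)).1 ?_
    exact isZero_Q_obj_of_acyclic hM
  · have : ∀ p, IsIso ((δc Δ K (n + 1)).f p) := fun p => by
      have : Mono ((δc Δ K (n + 1)).f p) :=
        (Δ.exact₃ _ (dsc_shortExact K p) (n + 1) (n + 2) rfl).mono_g
          ((isZero_rightDerived_J K p n).eq_of_src _ _)
      have : Epi ((δc Δ K (n + 1)).f p) :=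
        (Δ.exact₁ _ (dsc_shortExact K p) (n + 1) (n + 2) rfl).epi_f
          ((isZero_rightDerived_J K p (n + 1)).eq_of_tgt _ _)
      exact isIso_of_mono_of_epi _
    have := HomologicalComplex.Hom.isIso_of_components (δc Δ K (n + 1))
    infer_instance

end GrothLib.RDDual19
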