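import Groth.Agent.Lib.RDDual19.Tau
import Groth.Agent.Lib.CohDer19.CohDim
import Groth.Agent.Lib.Derive.LeftCx
import Groth.Agent.Lib.Derive.RightCx

/-!
The right derived functor as a shifted left derived functor.
-/

set_option autoImplicit false
universe w w' v v' u u'
open CategoryTheory CategoryTheory.Limits

namespace GrothLib.RDDual19

variable {A : Type u} [Category.{v} A] [Abelian A] [EnoughInjectives A] [HasDerivedCategory.{w} A]
  {B : Type u'} [Category.{v'} B] [Abelian B] [HasDerivedCategory.{w'} B]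
  (F : A ⥤ B) [F.Additive] [PreservesFiniteLimits F]

/-- Homotopy category and complexes. -/
noncomputable def hoIso : HomotopyCategory.quotient A (ComplexShape.up ℤ) ⋙
    (F.mapHomotopyCategory (ComplexShape.up ℤ) ⋙ DerivedCategory.Qh) ≅
      F.mapHomologicalComplex (ComplexShape.up ℤ) ⋙ DerivedCategory.Q :=
  (Functor.associator _ _ _).symm ≪≫
    Functor.isoWhiskerRight (F.mapHomotopyCategoryFactors (ComplexShape.up ℤ)) _ ≪≫
    Functor.associator _ _ _ ≪≫ Functor.isoWhiskerLeft _ (DerivedCategory.quotientCompQhIso B)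

theorem isIso_unit (N : ℕ) (hdim : ∀ (X : A) (i : ℕ), N < i → IsZero ((F.rightDerived i).obj X))
    (T : DerivedCategory A ⥤ DerivedCategory B)
    (α : F.mapHomologicalComplex (ComplexShape.up ℤ) ⋙ DerivedCategory.Q ⟶ DerivedCategory.Q ⋙ T)
    [T.IsRightDerivedFunctor α (HomologicalComplex.quasiIso A (ComplexShape.up ℤ))]
    (K : CochainComplex A ℤ) (hK : Dim F 0 K) : IsIso (α.app K) := by
  have h := CohDer19.CohDim.resolvable F N (fun i hi X => hdim X i (by omega))
  let R := h.RF DerivedCategory.Qh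
  let β := h.RFα DerivedCategory.Qh
  have hR := h.isLeftKanExtension R β fun _ hQ => h.isIso_RFα_app hQ
  let β₀ := (hoIso F).inv ≫ Functor.whiskerLeft (HomotopyCategory.quotient A (ComplexShape.up ℤ)) β ≫
    Functor.whiskerRight (DerivedCategory.quotientCompQhIso A).hom R
  have : R.IsRightDerivedFunctor β₀ (HomologicalComplex.quasiIso A (ComplexShape.up ℤ)) :=
    ⟨Derive.isLeftKanExtension_precomp _ (DerivedCategory.quotientCompQhIso A) (hoIso F) R β⟩
  let e := Functor.rightDerivedUnique T R α β₀ (HomologicalComplex.quasiIso A (ComplexShape.up ℤ))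
  have hfac : α.app K ≫ e.hom.app (DerivedCategory.Q.obj K) = β₀.app K := by
    change α.app K ≫ (T.rightDerivedNatTrans R α β₀ (HomologicalComplex.quasiIso A (ComplexShape.up ℤ)) (𝟙 _)).app _ = _
    rw [Functor.rightDerivedNatTrans_app]
    exact Category.id_comp _
  have h1 : IsIso (β₀.app K) := by
    have : IsIso (β.app ((HomotopyCategory.quotient A (ComplexShape.up ℤ)).obj K)) :=
      h.isIso_RFα_app fun p k => hK p (k + 1) (by omega)
    simp only [β₀, NatTrans.comp_app, Functor.whiskerLeft_app, Functor.whiskerRight_app]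
    infer_instance
  rw [← hfac] at h1
  exact IsIso.of_isIso_comp_right _ (e.hom.app (DerivedCategory.Q.obj K))

omit [HasDerivedCategory.{w} A] [HasDerivedCategory.{w'} B] in
lemma inv_of_PN {n : ℕ} {K : CochainComplex A ℤ} (hK : ∀ p, PN F n (K.X p)) : Inv F n K where
  low p i _ hi := hK p i (by omega)
  acyclic hn p := ShortComplex.exact_of_isZero_X₂ _
    (show IsZero (F.obj (K.X p)) from (hK p 0 (by omega)).of_iso (F.rightDerivedZeroIsoSelf.app (K.X p)).symm)

theorem resolvable (N : ℕ) (hdim : ∀ (X : A) (i : ℕ), N < i → IsZero ((F.rightDerived i).obj X))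
    (hP : ∀ X : A, ∃ (Y : A) (p : Y ⟶ X), Epi p ∧ ∀ i : ℕ, i ≠ N → IsZero ((F.rightDerived i).obj Y))
    [(F.rightDerived N).Additive]
    (T : DerivedCategory A ⥤ DerivedCategory B)
    (α : F.mapHomologicalComplex (ComplexShape.up ℤ) ⋙ DerivedCategory.Q ⟶ DerivedCategory.Q ⋙ T)
    (hα : ∀ K : CochainComplex A ℤ, Dim F 0 K → IsIso (α.app K)) :
    Derive.CxResolvable (fun K : CochainComplex A ℤ => ∀ p, PN F N (K.X p))
      ((F.rightDerived N).mapHomologicalComplex (ComplexShape.up ℤ) ⋙ DerivedCategory.Q) where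
  homotopy K L f g h := by
    obtain ⟨h⟩ := h
    rw [← cancel_epi ((DerivedCategory.quotientCompQhIso B).hom.app _)]
    dsimp only [Functor.comp_map]
    rw [← (DerivedCategory.quotientCompQhIso B).hom.naturality, ← (DerivedCategory.quotientCompQhIso B).hom.naturality]
    simp only [Functor.comp_map]
    rw [HomotopyCategory.eq_of_homotopy _ _ (Functor.mapHomotopy (F.rightDerived N) h)]
  exists_res K := by
    obtain ⟨Δ⟩ := RDerLES.nonempty_derivedLES F
    obtain ⟨Q, φ, hφ, hQ⟩ := exists_leftRes Δ hdim hP K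
    exact ⟨Q, φ, hQ, hφ⟩
  inverts K L φ hK hL hφ := by
    obtain ⟨Δ⟩ := RDerLES.nonempty_derivedLES F
    have hd : ∀ M : CochainComplex A ℤ, Dim F N M := fun M p i hi => hdim _ i hi
    have hn := τ_naturality Δ α hα N φ (hd K) (hd L)
    have := isIso_τ Δ α hα N K (hd K) (inv_of_PN F hK)
    have := isIso_τ Δ α hα N L (hd L) (inv_of_PN F hL)
    have : IsIso (τ Δ α hα N K (hd K) ≫ DerivedCategory.Q.map ((G F N).map φ)) := by
      rw [← hn]; infer_instance
    exact IsIso.of_isIso_comp_left (τ Δ α hα N K (hd K)) (DerivedCategory.Q.map ((G F N).map φ))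

theorem hasLeftDerivedFunctor (N : ℕ) (hdim : ∀ (X : A) (i : ℕ), N < i → IsZero ((F.rightDerived i).obj X))
    [(F.rightDerived N).Additive]
    (hP : ∀ X : A, ∃ (Y : A) (p : Y ⟶ X), Epi p ∧ ∀ i : ℕ, i ≠ N → IsZero ((F.rightDerived i).obj Y)) :
    ((F.rightDerived N).mapHomologicalComplex (ComplexShape.up ℤ) ⋙ DerivedCategory.Q).HasLeftDerivedFunctor
      (HomologicalComplex.quasiIso A (ComplexShape.up ℤ)) := by
  have h := CohDer19.CohDim.resolvable F N (fun i hi X => hdim X i (by omega))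
  have hR := h.isLeftKanExtension (h.RF DerivedCategory.Qh) (h.RFα DerivedCategory.Qh) fun _ hQ => h.isIso_RFα_app hQ
  let β₀ := (hoIso F).inv ≫
    Functor.whiskerLeft (HomotopyCategory.quotient A (ComplexShape.up ℤ)) (h.RFα DerivedCategory.Qh) ≫
      Functor.whiskerRight (DerivedCategory.quotientCompQhIso A).hom (h.RF DerivedCategory.Qh)
  have : (h.RF DerivedCategory.Qh).IsRightDerivedFunctor β₀ (HomologicalComplex.quasiIso A (ComplexShape.up ℤ)) :=
    ⟨Derive.isLeftKanExtension_precomp _ (DerivedCategory.quotientCompQhIso A) (hoIso F) _ (h.RFα DerivedCategory.Qh)⟩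
  exact (resolvable F N hdim hP _ β₀ fun K hK => isIso_unit F N hdim _ β₀ K hK).hasLeftDerivedFunctor

theorem nonempty_iso (N : ℕ) (hdim : ∀ (X : A) (i : ℕ), N < i → IsZero ((F.rightDerived i).obj X))
    [(F.rightDerived N).Additive]
    (hP : ∀ X : A, ∃ (Y : A) (p : Y ⟶ X), Epi p ∧ ∀ i : ℕ, i ≠ N → IsZero ((F.rightDerived i).obj Y))
    [(F.mapHomologicalComplex (ComplexShape.up ℤ) ⋙ DerivedCategory.Q).HasRightDerivedFunctor
      (HomologicalComplex.quasiIso A (ComplexShape.up ℤ))]
    [((F.rightDerived N).mapHomologicalComplex (ComplexShape.up ℤ) ⋙ DerivedCategory.Q).HasLeftDerivedFunctor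
      (HomologicalComplex.quasiIso A (ComplexShape.up ℤ))] :
    Nonempty ((F.mapHomologicalComplex (ComplexShape.up ℤ) ⋙ DerivedCategory.Q).totalRightDerived DerivedCategory.Q
        (HomologicalComplex.quasiIso A (ComplexShape.up ℤ)) ≅
      ((F.rightDerived N).mapHomologicalComplex (ComplexShape.up ℤ) ⋙ DerivedCategory.Q).totalLeftDerived
          DerivedCategory.Q (HomologicalComplex.quasiIso A (ComplexShape.up ℤ)) ⋙
        CategoryTheory.shiftFunctor (DerivedCategory B) (-(N : ℤ))) := by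
  let W := HomologicalComplex.quasiIso A (ComplexShape.up ℤ)
  let T := (F.mapHomologicalComplex (ComplexShape.up ℤ) ⋙ DerivedCategory.Q).totalRightDerived DerivedCategory.Q W
  let α := (F.mapHomologicalComplex (ComplexShape.up ℤ) ⋙ DerivedCategory.Q).totalRightDerivedUnit DerivedCategory.Q W
  let L := ((F.rightDerived N).mapHomologicalComplex (ComplexShape.up ℤ) ⋙ DerivedCategory.Q).totalLeftDerived
    DerivedCategory.Q W
  let β := ((F.rightDerived N).mapHomologicalComplex (ComplexShape.up ℤ) ⋙ DerivedCategory.Q).totalLeftDerivedCounit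
    DerivedCategory.Q W
  have hα : ∀ K : CochainComplex A ℤ, Dim F 0 K → IsIso (α.app K) := fun K hK => isIso_unit F N hdim T α K hK
  have hres := resolvable F N hdim hP T α hα
  obtain ⟨Δ⟩ := RDerLES.nonempty_derivedLES F
  have hd : ∀ M : CochainComplex A ℤ, Dim F N M := fun M p i hi => hdim _ i hi
  let τn : DerivedCategory.Q ⋙ (T ⋙ CategoryTheory.shiftFunctor (DerivedCategory B) (N : ℤ)) ⟶
      (F.rightDerived N).mapHomologicalComplex (ComplexShape.up ℤ) ⋙ DerivedCategory.Q :=
    { app := fun K => τ Δ α hα N K (hd K)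
      naturality := fun K K' f => τ_naturality Δ α hα N f (hd K) (hd K') }
  let Φ := L.leftDerivedLift β W (T ⋙ CategoryTheory.shiftFunctor (DerivedCategory B) (N : ℤ)) τn
  have hΦ : ∀ M, IsIso (Φ.app M) := fun M => by
    obtain ⟨Q, p, hQ, hp⟩ := hres.exists_res (DerivedCategory.Q.objPreimage M)
    let i := asIso (DerivedCategory.Q.map p) ≪≫ DerivedCategory.Q.objObjPreimageIso M
    have h1 : IsIso (β.app Q) := hres.isIso_app_of_isLeftDerivedFunctor L β hQ
    have h2 : IsIso (τn.app Q) := isIso_τ Δ α hα N Q (hd Q) (inv_of_PN F hQ)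
    have h3 : IsIso (Φ.app (DerivedCategory.Q.obj Q) ≫ β.app Q) := by
      rw [Functor.leftDerived_fac_app L β W _ τn Q]; exact h2
    have h4 := IsIso.of_isIso_comp_right (Φ.app (DerivedCategory.Q.obj Q)) (β.app Q)
    exact ((MorphismProperty.isomorphisms (DerivedCategory B)).arrow_mk_iso_iff
      (Arrow.isoMk (((T ⋙ CategoryTheory.shiftFunctor (DerivedCategory B) (N : ℤ))).mapIso i) (L.mapIso i)
        (Φ.naturality i.hom))).1 h4
  have : IsIso Φ := NatIso.isIso_of_isIso_app Φ
  exact ⟨(Functor.rightUnitor T).symm ≪≫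
    Functor.isoWhiskerLeft T (shiftFunctorCompIsoId (DerivedCategory B) (N : ℤ) (-(N : ℤ)) (by omega)).symm ≪≫
      (Functor.associator _ _ _).symm ≪≫ Functor.isoWhiskerRight (asIso Φ) _⟩

end GrothLib.RDDual19
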