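import Groth.Agent.Lib.RDDual19.Delta

/-!
The comparison of the right derived functor with the top derived functor applied termwise.
-/

set_option autoImplicit false
universe w w' v v' u u'
open CategoryTheory CategoryTheory.Limits

namespace GrothLib.RDDual19

variable {A : Type u} [Category.{v} A] [Abelian A] [EnoughInjectives A] [HasDerivedCategory.{w} A]
  {B : Type u'} [Category.{v'} B] [Abelian B] [HasDerivedCategory.{w'} B]
  {F : A ⥤ B} [F.Additive] [PreservesFiniteLimits F] (Δ : RDer.DerivedLES F)
  {TF : DerivedCategory A ⥤ DerivedCategory B}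
  (α : F.mapHomologicalComplex (ComplexShape.up ℤ) ⋙ DerivedCategory.Q ⟶ DerivedCategory.Q ⋙ TF)
  (hα : ∀ K : CochainComplex A ℤ, Dim F 0 K → IsIso (α.app K))

variable (F) in
/-- `(G (K[-1]))[1] = G K`. -/
noncomputable def eIso (k : ℕ) :
    CategoryTheory.shiftFunctor (CochainComplex A ℤ) (-1 : ℤ) ⋙ (G F k ⋙ DerivedCategory.Q) ⋙
      CategoryTheory.shiftFunctor (DerivedCategory B) (1 : ℤ) ≅ G F k ⋙ DerivedCategory.Q :=
  Functor.isoWhiskerLeft _ ((G F k ⋙ DerivedCategory.Q).commShiftIso (1 : ℤ)).symm ≪≫
    (Functor.associator _ _ _).symm ≪≫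
      Functor.isoWhiskerRight (shiftFunctorCompIsoId (CochainComplex A ℤ) (-1 : ℤ) 1 (by omega)) _ ≪≫
        Functor.leftUnitor _

/-- The comparison map. -/
noncomputable def τ : ∀ (n : ℕ) (K : CochainComplex A ℤ), Dim F n K →
    ((CategoryTheory.shiftFunctor (DerivedCategory B) (n : ℤ)).obj (TF.obj (DerivedCategory.Q.obj K)) ⟶
      DerivedCategory.Q.obj ((G F n).obj K))
  | 0, K, h =>
    have := hα K h
    (shiftFunctorZero' (DerivedCategory B) ((0 : ℕ) : ℤ) (by simp)).hom.app _ ≫ inv (α.app K) ≫
      DerivedCategory.Q.map (zeroIso.inv.app K)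
  | n + 1, K, h =>
    (shiftFunctorAdd' (DerivedCategory B) (n : ℤ) 1 ((n + 1 : ℕ) : ℤ) (by simp)).hom.app _ ≫
      (CategoryTheory.shiftFunctor (DerivedCategory B) (1 : ℤ)).map
        ((CategoryTheory.shiftFunctor (DerivedCategory B) (n : ℤ)).map (TF.map (θ K).hom) ≫
          τ n (T K) (dim_T Δ h)) ≫
        (eIso F n).hom.app (R K) ≫ DerivedCategory.Q.map (δc Δ K n)

theorem τ_naturality : ∀ (n : ℕ) {K K' : CochainComplex A ℤ} (f : K ⟶ K') (h : Dim F n K) (h' : Dim F n K'),
    (CategoryTheory.shiftFunctor (DerivedCategory B) (n : ℤ)).map (TF.map (DerivedCategory.Q.map f)) ≫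
        τ Δ α hα n K' h' =
      τ Δ α hα n K h ≫ DerivedCategory.Q.map ((G F n).map f) := by
  intro n
  induction n with
  | zero =>
    intro K K' f h h'
    have := hα K h
    have := hα K' h'
    simp only [τ, Category.assoc]
    rw [NatTrans.naturality_assoc]
    congr 1
    rw [← Functor.map_comp, ← zeroIso.inv.naturality f, Functor.map_comp, ← Category.assoc, ← Category.assoc]
    congr 1
    rw [IsIso.comp_inv_eq, Category.assoc, IsIso.eq_inv_comp]
    exact (α.naturality f).symm
  | succ n ih =>
    intro K K' f h h'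
    obtain ⟨a, b, ha, hb⟩ := exists_lift f
    simp only [τ, Category.assoc]
    rw [NatTrans.naturality_assoc]
    congr 1
    rw [← Functor.map_comp (DerivedCategory.Q), ← δc_naturality Δ f a b ha hb n,
      Functor.map_comp (DerivedCategory.Q)]
    have he := (eIso F n).hom.naturality b
    simp only [Functor.comp_obj, Functor.comp_map] at he
    erw [← reassoc_of% he]
    simp only [Functor.comp_map, ← Functor.map_comp_assoc]
    congr 2
    rw [Category.assoc, ← ih _ (dim_T Δ h) (dim_T Δ h'), ← Category.assoc, ← Functor.map_comp]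
    simp only [θ_naturality f a b ha hb, Functor.map_comp]

theorem isIso_τ : ∀ (n : ℕ) (K : CochainComplex A ℤ) (h : Dim F n K), Inv F n K →
    IsIso (τ Δ α hα n K h) := by
  intro n
  induction n with
  | zero =>
    intro K h _
    have := hα K h
    simp only [τ]
    infer_instance
  | succ n ih =>
    intro K h hI
    have := ih (T K) (dim_T Δ h) (inv_T Δ hI)
    have := isIso_Q_δc Δ h hI
    simp only [τ]
    infer_instance

end GrothLib.RDDual19
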